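import Groth.Agent.DerivedCoh.PCohDescent.Main
import Groth.Agent.DerivedCoh.TildeD.Iff
import Groth.Agent.Misc4.QCohDPerf
import Groth.Agent.Misc4.QCohTildeD
import Groth.Agent.MiscGeom.AlgzSheaf
import Groth.Agent.S6942
import Groth.Agent.PropsBasic2.TildeExact
import Groth.Agent.SheafExt.Coherent

/-!
Pseudo-coherence on a Noetherian scheme.
-/

set_option autoImplicit false

universe u

open CategoryTheory CategoryTheory.Limits AlgebraicGeometry HomologicalComplex
open Groth.KTheory.Perf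

namespace Groth.DerivedCoh.PCohDescent

attribute [local instance] HasDerivedCategory.standard

noncomputable section

attribute [local instance] Groth.PropsBasic2.preservesFiniteLimits_tilde

variable {X : Scheme.{u}}

lemma exists_chart (U : X.Opens) (hU : IsAffineOpen U) {E : DCoh.D X} (hE : DCoh.IsQCohD E) :
    ∃ M : Dual.D Γ(X, U), Nonempty ((DCoh.tildeD (CommRingCat.of Γ(X, U))).obj M ≅ (Rd hU.fromSpec).obj E) :=
  (Groth.Misc4.QCohTildeD.isQCohD_iff _ _).1 (Groth.Misc4.QCohDPerf.isQCohD_restrict hU.fromSpec hE)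

/-- On a Noetherian scheme pseudo-coherence is read on the cohomology sheaves. -/
theorem pcoh_iff_coherent [IsNoetherian X] (E : DCoh.D X) (hE : DCoh.IsQCohD E) (m : ℤ) :
    DCoh.IsPseudoCoherentD m E ↔ (∀ i : ℤ, m ≤ i → Coh.IsCoh (DCoh.HD E i)) ∧ ∃ b : ℤ, E.IsLE b := by
  constructor
  · intro h
    obtain ⟨b, hb⟩ := TildeD.exists_bound h
    refine ⟨fun i hi => (Groth.QCohMod.isCoh_iff _).2 ⟨hE i, fun U hU => ?_⟩,
      b, (DerivedCategory.isLE_iff E b).2 hb⟩
    obtain ⟨M, ⟨e⟩⟩ := exists_chart U hU hE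
    have : IsNoetherianRing Γ(X, U) := IsLocallyNoetherian.component_noetherian ⟨U, hU⟩
    have hM := (TildeD.isPseudoCoherentD_tildeD_iff M m).1
      (PCoh.isPseudoCoherentD_of_iso e.symm (pcoh_rd hU.fromSpec h))
    have hfin := ((Groth.Agent.S6942.result Γ(X, U) m M PUnit).1.1 hM).2 i hi
    obtain ⟨eH⟩ := Groth.Calg1.DualSch.nonempty_homology_tildeD (CommRingCat.of Γ(X, U)) M i
    obtain ⟨eR⟩ := nonempty_hdRd hU.fromSpec E i
    have hc : Coh.IsCoh ((DCoh.HD E i).restrict hU.fromSpec) := Groth.QCohMod.isCoh_of_iso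
      (eH.symm ≪≫ (DerivedCategory.homologyFunctor _ i).mapIso e ≪≫ eR)
      (Groth.MiscGeom.AlgzSheaf.isCoh_tilde' _ hfin)
    have hf := finite_of_restrict (DCoh.HD E i) hU.fromSpec ⊤
      (((Groth.QCohMod.isCoh_iff _).1 hc).2 ⊤ (isAffineOpen_top _))
    have hr : hU.fromSpec ''ᵁ ⊤ = U := hU.fromSpec.image_top_eq_opensRange.trans hU.opensRange_fromSpec
    revert hf
    generalize hU.fromSpec ''ᵁ ⊤ = V at hr
    subst hr
    exact fun hf => hf
  · rintro ⟨hc, b, hb⟩
    refine PCoh.isPseudoCoherentD_of_local fun x => ?_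
    obtain ⟨U, hU, hxU, -⟩ := exists_isAffineOpen_mem_and_subset (x := x) (U := ⊤) trivial
    refine ⟨U, hxU, ?_⟩
    obtain ⟨M, ⟨e⟩⟩ := exists_chart U hU hE
    have : IsNoetherianRing Γ(X, U) := IsLocallyNoetherian.component_noetherian ⟨U, hU⟩
    have hH : ∀ i, Nonempty ((tilde.functor (CommRingCat.of Γ(X, U))).obj
        ((DerivedCategory.homologyFunctor (ModuleCat.{u} Γ(X, U)) i).obj M) ≅
          (DCoh.HD E i).restrict hU.fromSpec) := fun i => by
      obtain ⟨eH⟩ := Groth.Calg1.DualSch.nonempty_homology_tildeD (CommRingCat.of Γ(X, U)) M i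
      obtain ⟨eR⟩ := nonempty_hdRd hU.fromSpec E i
      exact ⟨eH.symm ≪≫ (DerivedCategory.homologyFunctor _ i).mapIso e ≪≫ eR⟩
    have hM : DRing.IsPseudoCoherent Γ(X, U) m M :=
      (Groth.Agent.S6942.result Γ(X, U) m M PUnit).1.2 ⟨⟨b, fun i hi =>
          ModuleCat.subsingleton_of_isZero (TildeD.isZero_of_tilde
            (((Scheme.Modules.restrictFunctor hU.fromSpec).map_isZero
              ((DerivedCategory.isLE_iff E b).1 hb i hi)).of_iso (hH i).some))⟩,
        fun i hi => (Groth.PropsBasic.FPSections.isFT_tilde_iff _).1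
          (Groth.QCohMod.isFT_of_iso (hH i).some.symm
            (Groth.SheafExt.isCoh_restrictFunctor hU.fromSpec (hc i hi)).2)⟩
    have h := PCoh.isPseudoCoherentD_of_iso e ((TildeD.isPseudoCoherentD_tildeD_iff M m).2 hM)
    obtain ⟨c⟩ := nonempty_rdComp (k := hU.isoSpec.hom) (j := hU.fromSpec) (l := U.ι)
      (by rw [← hU.isoSpec_inv_ι, Iso.hom_inv_id_assoc]) E
    exact PCoh.isPseudoCoherentD_of_iso c.symm (pcoh_rd _ h)

end

end Groth.DerivedCoh.PCohDescent
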