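import Groth.Agent.DerivedCoh.PCohDescent.LiftTop
import Groth.Agent.DerivedCoh.StalkAmp.Descent
import Groth.Agent.DerivedCoh.StalkAmp.Perfect
import Groth.Agent.SchemeMorphisms.PrinParts.FlatExact

/-!
Pseudo-coherence and perfection descend along flat surjective quotient maps.
-/

set_option autoImplicit false

universe u

open CategoryTheory CategoryTheory.Limits CategoryTheory.Pretriangulated AlgebraicGeometry HomologicalComplex
open Groth.KTheory.Perf
open Groth.DerivedCoh.KFlat (stk T IsKFlat pullCx)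
open Groth.DerivedCoh.PCoh (Near Below PCohOn)

namespace Groth.DerivedCoh.PCohDescent

attribute [local instance] HasDerivedCategory.standard

local notation "up" => ComplexShape.up ℤ

variable {X Y U : Scheme.{u}}

/-- cohomology sheaves of a flat inverse image -/
theorem nonempty_hdLpull (f : Y ⟶ X) [Flat f] [DCoh.HasLpull f] (E : DCoh.D X) (i : ℤ) :
    Nonempty (DCoh.HD ((DCoh.Lpull f).obj E) i ≅ (Scheme.Modules.pullback f).obj (DCoh.HD E i)) := by
  obtain ⟨F, ⟨e⟩⟩ := exists_rep E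
  have := KFlat.flatResolution_quasiIso F
  let P := (KFlat.flatResolution X).obj F
  let eP : DCoh.toD X P ≅ E := asIso (DerivedCategory.Q.map ((KFlat.flatResolutionAug X).app F)) ≪≫ e
  have := Groth.PrinPartsAux.preservesFiniteLimits_pullback f
  have := (Scheme.Modules.pullbackPushforwardAdjunction f).leftAdjoint_preservesColimits
  exact ⟨(DerivedCategory.homologyFunctor _ i).mapIso
      ((DCoh.Lpull f).mapIso eP.symm ≪≫ KFlat.lpullQIso f P (KFlat.flatResolution_isKFlat F)) ≪≫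
    (DerivedCategory.homologyFunctorFactors Y.Modules i).app _ ≪≫
    (P.sc i).mapHomologyIso (Scheme.Modules.pullback f) ≪≫
    (Scheme.Modules.pullback f).mapIso (((DerivedCategory.homologyFunctorFactors X.Modules i).app P).symm ≪≫
      (DerivedCategory.homologyFunctor _ i).mapIso eP)⟩

lemma pcoh_mono {K : DCoh.D X} {m m' : ℤ} (h : DCoh.IsPseudoCoherentD m K) (hm : m ≤ m') :
    DCoh.IsPseudoCoherentD m' K := by
  rw [PCoh.isPseudoCoherentD_iff] at h ⊢
  exact fun x => let ⟨V, hx, hV⟩ := h x; ⟨V, hx, hV.mono hm⟩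

/-- restriction of a pseudo-coherent object -/
lemma pcoh_rd (j : U ⟶ X) [IsOpenImmersion j] {m : ℤ} {K : DCoh.D X}
    (h : DCoh.IsPseudoCoherentD m K) : DCoh.IsPseudoCoherentD m ((Rd j).obj K) := by
  rw [PCoh.isPseudoCoherentD_iff] at h ⊢
  intro x
  obtain ⟨V, hx, E, α, hE, hα⟩ := h (j x)
  obtain ⟨c⟩ := nonempty_rdComp (k := j ∣_ V) (j := V.ι) (l := (j ⁻¹ᵁ V).ι ≫ j)
    (morphismRestrict_ι j V).symm K
  obtain ⟨c'⟩ := nonempty_rdComp (k := (j ⁻¹ᵁ V).ι) (j := j) (l := (j ⁻¹ᵁ V).ι ≫ j) rfl K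
  exact ⟨j ⁻¹ᵁ V, hx, _, (rdQIso _ E).inv ≫ (Rd (j ∣_ V)).map α ≫ c.inv ≫ c'.hom,
    rc_isStrictlyPerfect _ hE, (PCoh.near_of_isIso _).comp
      ((PCoh.near_rd _ hα).comp ((PCoh.near_of_isIso _).comp (PCoh.near_of_isIso _)))⟩

/-- descent by induction on the top cohomology -/
theorem descend_aux (n : ℕ) : ∀ {X Y : Scheme.{u}} (f : Y ⟶ X) [Flat f] [Surjective f] [DCoh.HasLpull f],
    Topology.IsQuotientMap f.base → ∀ (E : DCoh.D X) (m : ℤ),
    DCoh.IsPseudoCoherentD m ((DCoh.Lpull f).obj E) →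
    (∀ i, m + n ≤ i → IsZero (DCoh.HD E i)) → DCoh.IsPseudoCoherentD m E := by
  induction n with
  | zero =>
    intro X Y f _ _ _ _ E m _ hE
    rw [PCoh.isPseudoCoherentD_iff]
    intro x
    let P : CochainComplex ((⊤ : X.Opens) : Scheme.{u}).Modules ℤ := HomologicalComplex.zero
    have hz : ∀ i, IsZero (P.X i) := fun i => isZero_zero _
    have hP : ∀ i, IsZero ((DerivedCategory.homologyFunctor _ i).obj (DCoh.toD _ P)) := fun i =>
      (ExactAt.of_isZero (hz i)).isZero_homology.of_iso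
        ((DerivedCategory.homologyFunctorFactors _ i).app P)
    have hK : ∀ i, m ≤ i → IsZero ((DerivedCategory.homologyFunctor _ i).obj
        ((Rd (⊤ : X.Opens).ι).obj E)) := fun i hi =>
      ((Scheme.Modules.restrictFunctor _).map_isZero (hE i (by simpa using hi))).of_iso
        (nonempty_hdRd _ E i).some
    refine ⟨⊤, trivial, P, 0, ⟨⟨0, 0, fun i _ => hz i⟩,
      fun i => Groth.KTheory.LocFree.isFinLocFree_zero (hz i)⟩,
      fun i hi => ⟨⟨0, (hP i).eq_of_src _ _, (hK i (by omega)).eq_of_src _ _⟩⟩,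
      ⟨fun g g' _ => (hK m le_rfl).eq_of_src _ _⟩⟩
  | succ n ih =>
    intro X Y f _ _ _ hq E m hL hb
    let t : ℤ := m + n
    have htop : ∀ i, t < i → IsZero (DCoh.HD E i) := fun i hi => hb i (by push_cast; omega)
    have htopL : ∀ i, t < i → IsZero (DCoh.HD ((DCoh.Lpull f).obj E) i) := fun i hi =>
      ((Scheme.Modules.pullback f).map_isZero (htop i hi)).of_iso (nonempty_hdLpull f E i).some
    have hft : CohB1.IsFT (DCoh.HD E t) := isFT_descends f hq _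
      (Groth.QCohMod.isFT_of_iso (nonempty_hdLpull f E t).some
        (PCoh.isFT_top (pcoh_mono hL (by omega : m ≤ t)) htopL))
    refine PCoh.isPseudoCoherentD_of_local fun x => ?_
    obtain ⟨W, P, α, hx, hP, hα⟩ := exists_near_free htop hft x
    refine ⟨W, hx, ?_⟩
    have := KFlat.hasLpull (f ∣_ W)
    have : Surjective (f ∣_ W) := IsZariskiLocalAtTarget.restrict ‹_› W
    have hqW : Topology.IsQuotientMap (f ∣_ W).base := by
      rw [morphismRestrict_base]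
      exact hq.restrictPreimage_isOpen W.2
    obtain ⟨c⟩ := PCoh.nonempty_rd_Lpull f W E
    obtain ⟨C, v, w, hT⟩ := distinguished_cocone_triangle α
    have hC : Below t C := PCoh.below_of_near _ hT hα
    obtain ⟨S, hS, ⟨i₁⟩, ⟨i₂⟩, ⟨i₃⟩⟩ := KFlat.exists_triangle (Scheme.Modules.pullback (f ∣_ W))
      (DCoh.Lpull (f ∣_ W)) (fun P hP => ⟨KFlat.lpullQIso _ P hP⟩) _ hT
    have hPp := Fibre.isPerfect_toD hP
    have h3 : DCoh.IsPseudoCoherentD m S.obj₃ := PCoh.isPseudoCoherentD_obj₃ S hS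
      (PCoh.isPseudoCoherentD_of_iso i₁.symm
        (PCoh.isPseudoCoherentD_of_isPerfect (PCoh.isPerfect_Lpull _ hPp) _))
      (PCoh.isPseudoCoherentD_of_iso (c ≪≫ i₂.symm) (pcoh_rd _ hL))
    exact PCoh.isPseudoCoherentD_obj₂ (Triangle.mk α v w) hT
      (PCoh.isPseudoCoherentD_of_isPerfect hPp m)
      (ih (f ∣_ W) hqW C m (PCoh.isPseudoCoherentD_of_iso i₃ h3) fun i hi => hC i hi)

/-- pseudo-coherent objects are locally bounded above -/
lemma exists_local_bound {K : DCoh.D X} {m : ℤ} (h : DCoh.IsPseudoCoherentD m K) (x : X) :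
    ∃ (V : X.Opens) (b : ℤ), x ∈ V ∧ ∀ i, b < i → ∀ y ∈ V, IsZero ((stk y).obj (DCoh.HD K i)) := by
  rw [PCoh.isPseudoCoherentD_iff] at h
  obtain ⟨V, hx, E, α, ⟨⟨a, b, hab⟩, -⟩, hα⟩ := h x
  refine ⟨V, max m b, hx, fun i hi y hy => ?_⟩
  have := hα.1 i (by omega)
  have hz : IsZero ((DCoh.HD K i).restrict V.ι) :=
    ((ExactAt.of_isZero (hab i (.inr (by omega)))).isZero_homology.of_iso
      ((asIso ((DerivedCategory.homologyFunctor _ i).map α)).symm ≪≫
        (DerivedCategory.homologyFunctorFactors _ i).app E)).of_iso (nonempty_hdRd V.ι K i).some.symm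
  have h1 : IsZero ((Groth.QCohMod.stalk y).obj (DCoh.HD K i)) :=
    ((Groth.QCohMod.isZero_iff_stalk _).1 hz ⟨y, hy⟩).of_iso
      ((Scheme.Modules.restrictStalkNatIso V.ι ⟨y, hy⟩).app (DCoh.HD K i)).symm
  have : Subsingleton ((stk y).obj (DCoh.HD K i)) := AddCommGrpCat.subsingleton_of_isZero h1
  exact ModuleCat.isZero_iff_subsingleton.2 this

lemma faithfullyFlat_stalkMap (f : Y ⟶ X) [Flat f] (y : Y) : (f.stalkMap y).hom.FaithfullyFlat :=
  Groth.Flatmor4.faithfullyFlat_stalk f y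

/-- pseudo-coherence descends along flat surjective quotient maps with compact lifts -/
theorem pcoh_descends (f : Y ⟶ X) [Flat f] [Surjective f] [DCoh.HasLpull f]
    (hq : Topology.IsQuotientMap f.base)
    (hc : ∀ x : X, ∃ (U : X.Opens) (C : Set Y), x ∈ U ∧ IsCompact C ∧ (U : Set X) ⊆ f.base '' C)
    (E : DCoh.D X) (m : ℤ) (h : DCoh.IsPseudoCoherentD m ((DCoh.Lpull f).obj E)) :
    DCoh.IsPseudoCoherentD m E := by
  refine PCoh.isPseudoCoherentD_of_local fun x => ?_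
  obtain ⟨W, C, hx, hC, hWC⟩ := hc x
  refine ⟨W, hx, ?_⟩
  choose V b hV hb using exists_local_bound h
  obtain ⟨s, hs⟩ := hC.elim_finite_subcover (fun y => (V y : Set Y)) (fun y => (V y).2)
    (fun y _ => Set.mem_iUnion.2 ⟨y, hV y⟩)
  obtain ⟨B, hB⟩ := (s.image b).bddAbove
  have hz : ∀ i, B < i → IsZero (DCoh.HD ((Rd W.ι).obj E) i) := fun i hi => by
    refine IsZero.of_iso (Fibre.isZero_of_stk fun v => ?_) (nonempty_hdRd W.ι E i).some
    obtain ⟨y, hy, hyv⟩ := hWC v.2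
    obtain ⟨z, hzs, hyz⟩ := Set.mem_iUnion₂.1 (hs hy)
    have h0 : IsZero ((stk y).obj ((Scheme.Modules.pullback f).obj (DCoh.HD E i))) :=
      (hb z i (lt_of_le_of_lt (hB (Finset.mem_coe.2 (Finset.mem_image_of_mem b hzs))) hi) y hyz).of_iso
        ((stk y).mapIso (nonempty_hdLpull f E i).some.symm)
    have h1 : IsZero ((stk (f y)).obj (DCoh.HD E i)) :=
      StalkAmp.isZero_of_extendScalars _ (faithfullyFlat_stalkMap f y) _
        (h0.of_iso ((KFlat.pullStkIso f y).app (DCoh.HD E i)).symm)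
    have h2 : Subsingleton ((Groth.QCohMod.stalk (W.ι v)).obj (DCoh.HD E i)) := by
      have hv : W.ι v = f y := hyv.symm
      rw [hv]
      exact ModuleCat.subsingleton_of_isZero h1
    have : Subsingleton ((Groth.QCohMod.stalk v).obj ((DCoh.HD E i).restrict W.ι)) :=
      AddCommGrpCat.subsingleton_of_isZero ((AddCommGrpCat.isZero_of_subsingleton _).of_iso
        ((Scheme.Modules.restrictStalkNatIso W.ι v).app (DCoh.HD E i)))
    exact ModuleCat.isZero_iff_subsingleton.2 this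
  have := KFlat.hasLpull (f ∣_ W)
  have : Surjective (f ∣_ W) := IsZariskiLocalAtTarget.restrict ‹_› W
  have hqW : Topology.IsQuotientMap (f ∣_ W).base := by
    rw [morphismRestrict_base]
    exact hq.restrictPreimage_isOpen W.2
  obtain ⟨c⟩ := PCoh.nonempty_rd_Lpull f W E
  exact descend_aux (B + 1 - m).toNat (f ∣_ W) hqW _ m (PCoh.isPseudoCoherentD_of_iso c (pcoh_rd _ h))
    fun i hi => hz i (by omega)

lemma compact_lift_of_qc (f : Y ⟶ X) [Surjective f] [QuasiCompact f] (x : X) :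
    ∃ (U : X.Opens) (C : Set Y), x ∈ U ∧ IsCompact C ∧ (U : Set X) ⊆ f.base '' C := by
  obtain ⟨W, hW, hxW, -⟩ := exists_isAffineOpen_mem_and_subset (x := x) (U := ⊤) trivial
  refine ⟨W, (f ⁻¹ᵁ W : Y.Opens), hxW, f.isCompact_preimage hW.isCompact, fun z hz => ?_⟩
  obtain ⟨y, rfl⟩ := f.surjective z
  exact ⟨y, hz, rfl⟩

lemma compact_lift_of_open (f : Y ⟶ X) [Surjective f] (hf : IsOpenMap f.base) (x : X) :
    ∃ (U : X.Opens) (C : Set Y), x ∈ U ∧ IsCompact C ∧ (U : Set X) ⊆ f.base '' C := by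
  obtain ⟨y, rfl⟩ := f.surjective x
  obtain ⟨V, hV, hyV, -⟩ := exists_isAffineOpen_mem_and_subset (x := y) (U := ⊤) trivial
  exact ⟨⟨f.base '' V, hf _ V.2⟩, V, ⟨y, hyV, rfl⟩, hV.isCompact, le_rfl⟩

theorem pcoh_descends_qc (f : Y ⟶ X) [Flat f] [Surjective f] [QuasiCompact f] [DCoh.HasLpull f]
    (E : DCoh.D X) (m : ℤ) :
    DCoh.IsPseudoCoherentD m E ↔ DCoh.IsPseudoCoherentD m ((DCoh.Lpull f).obj E) :=
  ⟨PCoh.isPseudoCoherentD_Lpull f,
    pcoh_descends f (Flat.isQuotientMap_of_surjective f) (compact_lift_of_qc f) E m⟩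

theorem pcoh_descends_fppf (f : Y ⟶ X) [Flat f] [Surjective f] [LocallyOfFinitePresentation f]
    [DCoh.HasLpull f] (E : DCoh.D X) (m : ℤ) :
    DCoh.IsPseudoCoherentD m E ↔ DCoh.IsPseudoCoherentD m ((DCoh.Lpull f).obj E) :=
  ⟨PCoh.isPseudoCoherentD_Lpull f,
    pcoh_descends f (f.isOpenMap.isQuotientMap f.continuous f.surjective)
      (compact_lift_of_open f f.isOpenMap) E m⟩

/-- perfect objects on a quasi-compact scheme have bounded flat amplitude -/
theorem exists_flatAmp_of_isPerfect [CompactSpace Y] {K : DCoh.D Y} (h : DCoh.IsPerfect K) :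
    ∃ a b : ℤ, DCoh.HasFlatAmplitudeIn a b K := by
  have hp := (isPerfect_iff _).1 h
  choose V hxV hV using hp
  choose a b hab hamp using fun x => PCoh.exists_flatAmp_of_perfOn (hV x)
  obtain ⟨t, ht⟩ := isCompact_univ.elim_finite_subcover (fun x => (V x : Set Y)) (fun x => (V x).2)
    (fun x _ => Set.mem_iUnion.2 ⟨x, hxV x⟩)
  obtain ⟨lo, hlo⟩ := (t.image a).bddBelow
  obtain ⟨hi', hhi'⟩ := (t.image b).bddAbove
  refine ⟨lo, hi', StalkAmp.flatAmp_of_local fun y => ?_⟩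
  obtain ⟨x, hx, hy⟩ := Set.mem_iUnion₂.1 (ht (Set.mem_univ y))
  obtain ⟨E, hE, hf, e⟩ := hamp x
  have h1 : lo ≤ a x := hlo (Finset.mem_coe.2 (Finset.mem_image_of_mem a hx))
  have h2 : b x ≤ hi' := hhi' (Finset.mem_coe.2 (Finset.mem_image_of_mem b hx))
  exact ⟨V x, hy, E, fun i hi => hE i (by omega), hf, e⟩

lemma isPerfect_rd (j : U ⟶ X) [IsOpenImmersion j] {K : DCoh.D X} (h : DCoh.IsPerfect K) :
    DCoh.IsPerfect ((Rd j).obj K) := by
  rw [isPerfect_iff] at h ⊢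
  intro x
  obtain ⟨V, hx, E, hE, ⟨e⟩⟩ := h (j x)
  obtain ⟨c⟩ := nonempty_rdComp (k := j ∣_ V) (j := V.ι) (l := (j ⁻¹ᵁ V).ι ≫ j)
    (morphismRestrict_ι j V).symm K
  obtain ⟨c'⟩ := nonempty_rdComp (k := (j ⁻¹ᵁ V).ι) (j := j) (l := (j ⁻¹ᵁ V).ι ≫ j) rfl K
  exact ⟨j ⁻¹ᵁ V, hx, _, rc_isStrictlyPerfect _ hE,
    ⟨c'.symm ≪≫ c ≪≫ (Rd (j ∣_ V)).mapIso e ≪≫ rdQIso _ E⟩⟩

theorem perfect_descends_qc (f : Y ⟶ X) [Flat f] [Surjective f] [QuasiCompact f] [DCoh.HasLpull f]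
    (E : DCoh.D X) : DCoh.IsPerfect E ↔ DCoh.IsPerfect ((DCoh.Lpull f).obj E) := by
  refine ⟨PCoh.isPerfect_Lpull f, fun h => ?_⟩
  rw [isPerfect_iff]
  intro x
  obtain ⟨W, hW, hxW, -⟩ := exists_isAffineOpen_mem_and_subset (x := x) (U := ⊤) trivial
  have := KFlat.hasLpull (f ∣_ W)
  have : Surjective (f ∣_ W) := IsZariskiLocalAtTarget.restrict ‹_› W
  have : CompactSpace (f ⁻¹ᵁ W : Y.Opens) :=
    isCompact_iff_compactSpace.1 (f.isCompact_preimage hW.isCompact)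
  obtain ⟨c⟩ := PCoh.nonempty_rd_Lpull f W E
  obtain ⟨a, b, hab⟩ := exists_flatAmp_of_isPerfect
    (Groth.KTheory.Perf.isPerfect_of_iso c (isPerfect_rd _ h))
  have hp : DCoh.IsPerfect ((Rd W.ι).obj E) := PCoh.isPerfect_of_flatAmp
    (StalkAmp.flatAmp_descends (f ∣_ W) _ a b hab)
    (pcoh_rd _ ((pcoh_descends_qc f E (a - 1)).2 (PCoh.isPseudoCoherentD_of_isPerfect h _)))
  obtain ⟨V, hV, F, hF, ⟨e⟩⟩ := (isPerfect_iff _).1 hp ⟨x, hxW⟩
  obtain ⟨c'⟩ := nonempty_rdComp (k := V.ι) (j := W.ι) (l := V.ι ≫ W.ι) rfl E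
  exact ⟨(V.ι ≫ W.ι).opensRange, ⟨⟨⟨x, hxW⟩, hV⟩, rfl⟩, perfOn_of_range _ hF (c' ≪≫ e)⟩

end Groth.DerivedCoh.PCohDescent
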