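import Groth.Agent.DescentBase.LocGenFpqc
import Groth.Agent.VectorBundles.FTStalk
import Mathlib.AlgebraicGeometry.Morphisms.FlatDescent

/-!
Finite type descends along flat surjective morphisms which are topological quotient maps,
for arbitrary modules.
-/

set_option autoImplicit false
set_option backward.isDefEq.respectTransparency false

universe u

open CategoryTheory Limits AlgebraicGeometry TopologicalSpace
open scoped TensorProduct
open Groth.QCohMod (res germ germ_res exists_germ pullGerm pullGerm_germ pullStalkEquiv pullStalkHom_tmul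
  stalkAlg)
open Groth.PicAux (pullSec)
open Groth.DescentBase (FTOpen.span_pullGerm_eq_top FTOpen.span_eq_top_of_pullGerm)

namespace Groth.DerivedCoh.PCohDescent

variable {X Y : Scheme.{u}}

/-- finitely many germs downstairs span the stalk of the inverse image -/
lemma exists_finset_pullGerm_span (f : Y ⟶ X) (M : X.Modules) (y : Y) {ι : Type u} [Finite ι]
    (v : ι → ((Scheme.Modules.pullback f).obj M).presheaf.stalk y)
    (hv : Submodule.span (Y.presheaf.stalk y) (Set.range v) = ⊤) :
    ∃ T : Finset (M.presheaf.stalk (f y)),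
      Submodule.span (Y.presheaf.stalk y) (pullGerm f M y '' (T : Set (M.presheaf.stalk (f y)))) = ⊤ := by
  classical
  have := Fintype.ofFinite ι
  letI := stalkAlg f y
  choose S hS using fun i => TensorProduct.exists_finset ((pullStalkEquiv f M y).symm (v i))
  refine ⟨Finset.univ.biUnion fun i => (S i).image Prod.snd,
    eq_top_iff.2 (hv.ge.trans (Submodule.span_le.2 ?_))⟩
  rintro _ ⟨i, rfl⟩
  rw [SetLike.mem_coe, ← (pullStalkEquiv f M y).apply_symm_apply (v i), hS i, map_sum]
  refine Submodule.sum_mem _ fun q hq => ?_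
  show QCohMod.pullStalkHom f M y _ ∈ _
  rw [pullStalkHom_tmul]
  exact Submodule.smul_mem _ _ (Submodule.subset_span ⟨q.2,
    Finset.mem_biUnion.2 ⟨i, Finset.mem_univ _, Finset.mem_image_of_mem _ hq⟩, rfl⟩)

/-- Finite type descends along flat surjective quotient maps, for arbitrary modules. -/
theorem isFT_descends (f : Y ⟶ X) [Flat f] [Surjective f] (hq : Topology.IsQuotientMap f.base)
    (M : X.Modules) (h : CohB1.IsFT ((Scheme.Modules.pullback f).obj M)) : CohB1.IsFT M := by
  classical
  refine DescentBase.FTOpen.isFT_of_local_span M fun x => ?_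
  obtain ⟨y, rfl⟩ := f.surjective x
  obtain ⟨V, hV, ι, hι, v, hv⟩ := VectorBundles.RefHullStalk.exists_spans_of_isFT _ h y
  obtain ⟨T, hT⟩ := exists_finset_pullGerm_span f M y _ (hv y hV)
  let K : Type u := {t // t ∈ T}
  choose O hO m hm using fun t : K => exists_germ M (f y) t.1
  let U : X.Opens := Finset.univ.inf O
  have hU : f y ∈ U := by
    show f y ∈ ((Finset.univ.inf O : X.Opens) : Set X)
    rw [Opens.coe_finset_inf]
    simp only [Finset.inf_set_eq_iInter, Set.mem_iInter]
    exact fun k _ => hO k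
  let s : K → Γ(M, U) := fun t => res M (Finset.inf_le (Finset.mem_univ t)) (m t)
  let W : Set X := {x | ∃ hx : x ∈ U,
    Submodule.span (X.presheaf.stalk x) (Set.range fun k => germ M x hx (s k)) = ⊤}
  have hWy : f y ∈ W := by
    refine ⟨hU, FTOpen.span_eq_top_of_pullGerm f M y _
      (eq_top_iff.2 (hT.ge.trans (Submodule.span_mono (Set.image_mono ?_))))⟩
    intro t ht
    exact ⟨⟨t, ht⟩, (germ_res M _ (f y) hU _).trans (hm ⟨t, ht⟩)⟩
  have hW : IsOpen W := by
    rw [← hq.isOpen_preimage, isOpen_iff_forall_mem_open]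
    rintro z ⟨hz, hs⟩
    obtain ⟨V', hV', ι', hι', v', hv'⟩ := VectorBundles.RefHullStalk.exists_spans_of_isFT _ h z
    have hz' : z ∈ f ⁻¹ᵁ U := hz
    have ht : Submodule.span (Y.presheaf.stalk z) (Set.range fun k =>
        germ ((Scheme.Modules.pullback f).obj M) z hz' (pullSec f M (s k))) = ⊤ := by
      refine eq_top_iff.2 ((FTOpen.span_pullGerm_eq_top f M z _ hs).ge.trans (Submodule.span_mono ?_))
      rintro _ ⟨_, ⟨k, rfl⟩, rfl⟩
      exact ⟨k, (pullGerm_germ f M z hz _).symm⟩
    obtain ⟨W', hW', hle, hspan⟩ :=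
      DescentBase.LocGenFpqc.exists_nhd_span _ hV' hz' v' (fun k => pullSec f M (s k)) hv' ht
    refine ⟨W', fun w hw => ⟨hle hw, FTOpen.span_eq_top_of_pullGerm f M w _
      (eq_top_iff.2 ((hspan w hw).ge.trans (Submodule.span_mono ?_)))⟩, W'.2, hW'⟩
    rintro _ ⟨k, rfl⟩
    exact ⟨_, ⟨k, rfl⟩, (pullGerm_germ f M w _ _).trans (germ_res _ _ _ _ _).symm⟩
  let Wo : X.Opens := ⟨W, hW⟩
  have hWU : Wo ≤ U := fun x hx => hx.1
  refine ⟨Wo, hWy, K, inferInstance, fun k => res M hWU (s k), fun z hz => ?_⟩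
  obtain ⟨hzU, hsp⟩ := id hz
  refine eq_top_iff.2 (hsp.ge.trans (Submodule.span_mono ?_))
  rintro _ ⟨k, rfl⟩
  exact ⟨k, germ_res M _ z hz _⟩

end Groth.DerivedCoh.PCohDescent
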