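import Groth.Agent.DerivedCoh.PCohDescent.FTDescent
import Groth.Agent.DerivedCoh.PCoh.ModuleFP
import Groth.Agent.DerivedCoh.Fibre.Concentrated

/-!
Locally lifting generators of the top cohomology sheaf to a finite free complex.
-/

set_option autoImplicit false
set_option backward.isDefEq.respectTransparency false

universe u

open CategoryTheory CategoryTheory.Limits AlgebraicGeometry HomologicalComplex
open Groth.KTheory.Perf
open Groth.QCohMod (res germ germ_res exists_germ pullGerm pullGerm_germ)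
open Groth.PicAux (pullSec)
open Groth.DerivedCoh.PCoh (Near Below)

namespace Groth.DerivedCoh.PCohDescent

attribute [local instance] HasDerivedCategory.standard

local notation "up" => ComplexShape.up ℤ

variable {U : Scheme.{u}}

lemma secHom_comp {M N : U.Modules} (φ : M ⟶ N) (m : Γ(M, (⊤ : U.Opens))) :
    Groth.QCohMod.secHom M m ≫ φ = Groth.QCohMod.secHom N (φ.app ⊤ m) := by
  apply (SheafOfModules.unitHomEquiv (R := U.ringCatSheaf) N).injective
  refine PresheafOfModules.sections_ext _ _ fun V => ?_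
  change φ.app V.unop ((Groth.QCohMod.secHom M m).app V.unop (Groth.QCohMod.oneSec V.unop)) =
    (Groth.QCohMod.secHom N (φ.app ⊤ m)).app V.unop (Groth.QCohMod.oneSec V.unop)
  rw [Groth.QCohMod.secHom_app_one, Groth.QCohMod.secHom_app_one]
  exact (Groth.QCohMod.res_app φ le_top m).symm

/-- generators of a finite type quotient lift locally to a finite free module -/
theorem exists_lift_epi {M N : U.Modules} (π : M ⟶ N) [Epi π] (hN : CohB1.IsFT N) (x : U) :
    ∃ (W : U.Opens) (F : (W : Scheme.{u}).Modules) (v : F ⟶ M.restrict W.ι),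
      x ∈ W ∧ FlatMod.IsFinLocFree F ∧ Epi (v ≫ (Scheme.Modules.restrictFunctor W.ι).map π) := by
  classical
  obtain ⟨V, hxV, K, hK, g, hg⟩ := VectorBundles.RefHullStalk.exists_spans_of_isFT N hN x
  choose t ht using fun k => (Groth.QCohMod.epi_iff_stalk π).1 ‹_› x (germ N x hxV (g k))
  choose O hO s hs using fun k => exists_germ M x (t k)
  let U₀ : U.Opens := Finset.univ.inf O
  have hxU : x ∈ U₀ := by
    show x ∈ ((Finset.univ.inf O : U.Opens) : Set U)
    rw [TopologicalSpace.Opens.coe_finset_inf]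
    simp only [Finset.inf_set_eq_iInter, Set.mem_iInter]
    exact fun k _ => hO k
  let s' : K → Γ(M, U₀) := fun k => res M (Finset.inf_le (Finset.mem_univ k)) (s k)
  have hspan : Submodule.span (U.presheaf.stalk x)
      (Set.range fun k => germ N x hxU (π.app U₀ (s' k))) = ⊤ := by
    refine eq_top_iff.2 ((hg x hxV).ge.trans (Submodule.span_mono ?_))
    rintro _ ⟨k, rfl⟩
    refine ⟨k, ?_⟩
    dsimp only [s']
    rw [← ht k, ← hs k, ← germ_res M (Finset.inf_le (Finset.mem_univ k) : U₀ ≤ O k) x hxU (s k)]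
    exact (Groth.QCohMod.stalk_map_germ π x hxU _).symm
  obtain ⟨W, hxW, hWU, hW⟩ :=
    DescentBase.LocGenFpqc.exists_nhd_span N hxV hxU g (fun k => π.app U₀ (s' k)) hg hspan
  let P := Scheme.Modules.pullback W.ι
  have hle : (⊤ : (W : Scheme.{u}).Opens) ≤ W.ι ⁻¹ᵁ W := le_of_eq (by ext z; simpa using z.2)
  let m : K → Γ(P.obj M, (⊤ : (W : Scheme.{u}).Opens)) := fun k =>
    res _ hle (pullSec W.ι M (res M hWU (s' k)))
  let e := Scheme.Modules.restrictFunctorIsoPullback W.ι
  refine ⟨W, Groth.LocFree.freeOn (W : Scheme.{u}) K, Groth.QCohMod.freeHom (P.obj M) m ≫ e.inv.app M,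
    hxW, PCoh.isFinLocFree_freeOn K, ?_⟩
  have h1 : Groth.QCohMod.freeHom (P.obj M) m ≫ P.map π =
      Groth.QCohMod.freeHom (P.obj N) fun k => (P.map π).app ⊤ (m k) := by
    refine Sigma.hom_ext _ _ fun k => ?_
    rw [← Category.assoc, Groth.QCohMod.ι_freeHom, Groth.QCohMod.ι_freeHom]
    exact secHom_comp _ _
  have h2 : Epi (Groth.QCohMod.freeHom (P.obj M) m ≫ P.map π) := by
    rw [h1]
    refine Groth.QCohMod.epi_freeHom _ _ fun z => ?_
    have hz : W.ι z ∈ W := z.2
    refine eq_top_iff.2 ((DescentBase.FTOpen.span_pullGerm_eq_top W.ι N z _ (hW _ hz)).ge.trans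
      (Submodule.span_mono ?_))
    rintro _ ⟨_, ⟨k, rfl⟩, rfl⟩
    refine ⟨k, ?_⟩
    dsimp only [m]
    rw [← Groth.QCohMod.res_app (P.map π) hle, germ_res, pullGerm_germ]
    dsimp only [P]
    rw [Groth.PicAux.pullSec_map, Groth.QCohMod.res_app π hWU]
  rw [Category.assoc, ← e.inv.naturality π, ← Category.assoc]
  exact epi_comp' h2 inferInstance

/-- a bounded above object with finite type top cohomology receives locally a map from a finite free
module in the top degree, surjective on cohomology -/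
theorem exists_near_free {E : DCoh.D U} {t : ℤ} (h0 : ∀ i, t < i → IsZero (DCoh.HD E i))
    (hft : CohB1.IsFT (DCoh.HD E t)) (x : U) :
    ∃ (W : U.Opens) (P : CochainComplex (W : Scheme.{u}).Modules ℤ)
      (α : DCoh.toD _ P ⟶ (Rd W.ι).obj E), x ∈ W ∧ DCoh.IsStrictlyPerfect P ∧ Near t α := by
  let C₀ := DerivedCategory.Q.objPreimage E
  let e₀ : DCoh.toD U C₀ ≅ E := DerivedCategory.Q.objObjPreimageIso E
  have hle : C₀.IsLE t := (CochainComplex.isLE_iff C₀ t).2 fun i hi => by
    rw [exactAt_iff_isZero_homology]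
    exact (h0 i hi).of_iso (((DerivedCategory.homologyFunctorFactors _ i).app C₀).symm ≪≫
      (DerivedCategory.homologyFunctor _ i).mapIso e₀)
  let C := C₀.truncLE t
  have hC : ∀ i, t < i → IsZero (C.X i) := fun i hi => C₀.truncLE t |>.isZero_of_isStrictlyLE t i hi
  let eC : DCoh.toD U C ≅ E := asIso (DerivedCategory.Q.map (C₀.ιTruncLE t)) ≪≫ e₀
  have := C.isIso_homologyι t (t + 1) (by simp) ((hC (t + 1) (by omega)).eq_of_tgt _ _)
  let eN : DCoh.HD E t ≅ C.opcycles t :=
    ((DerivedCategory.homologyFunctor _ t).mapIso eC).symm ≪≫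
      (DerivedCategory.homologyFunctorFactors _ t).app C ≪≫ asIso (C.homologyι t)
  obtain ⟨W, F, v, hxW, hF, hv⟩ :=
    exists_lift_epi (C.pOpcycles t) (Groth.QCohMod.isFT_of_iso eN hft) x
  let R := Scheme.Modules.restrictFunctor W.ι
  let RC := (Rc W.ι).obj C
  let P := (HomologicalComplex.single (W : Scheme.{u}).Modules up t).obj F
  have hRC : ∀ i, t < i → IsZero (RC.X i) := fun i hi => R.map_isZero (hC i hi)
  let φ : P ⟶ RC := HomologicalComplex.mkHomFromSingle v
    fun j hj => (hRC j (by simp at hj; omega)).eq_of_tgt _ _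
  have hPX : ∀ i, i ≠ t → IsZero (P.X i) := fun i hi =>
    HomologicalComplex.isZero_single_obj_X _ t _ i hi
  have hP : DCoh.IsStrictlyPerfect P := by
    refine ⟨⟨t, t, fun i hi => hPX i (by omega)⟩, fun i => ?_⟩
    by_cases hi : i = t
    · subst hi
      exact Groth.KTheory.LocFree.isFinLocFree_of_iso
        (HomologicalComplex.singleObjXSelf _ i F).symm hF
    · exact Groth.KTheory.LocFree.isFinLocFree_zero (hPX i hi)
  refine ⟨W, P, DerivedCategory.Q.map φ ≫ (rdQIso W.ι C).inv ≫ (Rd W.ι).map eC.hom, hxW, hP,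
    Near.comp ⟨fun i hi => ?_, ?_⟩ ((PCoh.near_of_isIso _).comp (PCoh.near_of_isIso _))⟩
  · exact ⟨⟨0, ((ExactAt.of_isZero (hPX i (by omega))).isZero_homology.of_iso
        ((DerivedCategory.homologyFunctorFactors _ i).app P)).eq_of_src _ _,
      ((ExactAt.of_isZero (hRC i hi)).isZero_homology.of_iso
        ((DerivedCategory.homologyFunctorFactors _ i).app RC)).eq_of_src _ _⟩⟩
  refine ((MorphismProperty.epimorphisms _).arrow_mk_iso_iff
    (Arrow.isoOfNatIso (DerivedCategory.homologyFunctorFactors _ t) (Arrow.mk φ))).2 ?_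
  change Epi (homologyMap φ t)
  have := RC.isIso_iCycles t (t + 1) (by simp) ((hRC (t + 1) (by omega)).eq_of_tgt _ _)
  refine Preadditive.epi_of_cancel_zero _ fun {Z} h hh => ?_
  let k : R.obj (C.X t) ⟶ Z := inv (RC.iCycles t) ≫ RC.homologyπ t ≫ h
  have hk1 : R.map (C.d (t - 1) t) ≫ k = 0 := by
    have : R.map (C.d (t - 1) t) = RC.toCycles (t - 1) t ≫ RC.iCycles t :=
      (RC.toCycles_i (t - 1) t).symm
    dsimp only [k]
    rw [this, Category.assoc, IsIso.hom_inv_id_assoc, HomologicalComplex.toCycles_comp_homologyπ_assoc,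
      zero_comp]
  have hk2 : v ≫ k = 0 := by
    let u : F ⟶ P.cycles t :=
      P.liftCycles (HomologicalComplex.singleObjXSelf up t _).inv (t + 1) (by simp)
        ((hPX (t + 1) (by omega)).eq_of_tgt _ _)
    have : v ≫ inv (RC.iCycles t) = u ≫ cyclesMap φ t := by
      rw [IsIso.comp_inv_eq, Category.assoc, cyclesMap_i, liftCycles_i_assoc]
      simp [φ]
    dsimp only [k]
    rw [← Category.assoc, this, Category.assoc, ← homologyπ_naturality_assoc, hh, comp_zero,
      comp_zero]
  let S := ShortComplex.mk (C.d (t - 1) t) (C.pOpcycles t) (C.d_pOpcycles (t - 1) t)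
  have hS : S.Exact := ShortComplex.exact_of_g_is_cokernel S
    (C.opcyclesIsCokernel (t - 1) t (by simp))
  have : R.PreservesZeroMorphisms := inferInstance
  have hRS := hS.map R
  have : Epi (S.map R).g := inferInstanceAs (Epi (R.map (C.pOpcycles t)))
  have hl := hRS.g_desc k hk1
  have h0 : hRS.desc k hk1 = 0 := by
    rw [← cancel_epi (v ≫ R.map (C.pOpcycles t)), comp_zero, Category.assoc]
    exact (congrArg (v ≫ ·) hl).trans hk2
  have hk : k = 0 := by rw [← hl, h0, comp_zero]
  have : RC.homologyπ t ≫ h = 0 := by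
    rw [← cancel_epi (inv (RC.iCycles t)), comp_zero]
    exact hk
  rwa [← cancel_epi (RC.homologyπ t), comp_zero]

end Groth.DerivedCoh.PCohDescent
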